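set_option autoImplicit false
namespace Cfsg.Agent.Lib.Helper6.TCD.HeaL
noncomputable def HL3L0 (i : Nat) : Nat := Nat.land (Nat.shiftRight 0x201000000000000000000000000000000000000000000000000000000000000000000000000000000000000000000000000000000000000000000000000000000000000000000000000000000000000000000000000000000000000000000000000000000000000000000000000000000000000000000000000000000000000000000000000000111000000000000000101000000000000000000000000000000000000000000000000000000000000000000000000000000000000000000000000000000000000000000000000000000000000000000000000000000000000000001000000000000000000000000000000000000000000000000000000000000000000000000000000000000000000000000000000000000000000000000000000000000000000000000000000000000000000000000000000000000000000000000000000000000 (Nat.mul 24 (Nat.land i 1023))) 16777215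
noncomputable def HL3L1 (i : Nat) : Nat := Nat.land (Nat.shiftRight 0x0 (Nat.mul 24 (Nat.land i 1023))) 16777215
noncomputable def HL3P0N0 (i : Nat) : Nat := Bool.rec (HL3L0 i) (HL3L1 i) (Nat.ble 1024 i)
noncomputable def HL3L2 (i : Nat) : Nat := Nat.land (Nat.shiftRight 0x0 (Nat.mul 24 (Nat.land i 1023))) 16777215
noncomputable def HL3 (i : Nat) : Nat := Bool.rec (HL3P0N0 i) (HL3L2 i) (Nat.ble 2048 i)
end Cfsg.Agent.Lib.Helper6.TCD.HeaL
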