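import Cfsg.Agent.Lib.Helper6.TCD.Hea.Par
import Cfsg.Agent.Lib.Helper6.TCD.HeaL.HL0
import Cfsg.Agent.Lib.Helper6.TCD.HeaL.HL1
import Cfsg.Agent.Lib.Helper6.TCD.HeaL.HL2
import Cfsg.Agent.Lib.Helper6.TCD.HeaL.HL3
set_option autoImplicit false
set_option maxRecDepth 100000
namespace Cfsg.Agent.Lib.Helper6.TCD.HeaL
open Cfsg.Agent.Lib.Helper6.TCD.Hea
noncomputable def WL0_0 (p : Nat) : Nat := P0 p
noncomputable def WL0_1 (p : Nat) : Nat := P1 p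
noncomputable def WL0_2 (p : Nat) : Nat := P2 p
noncomputable def WL0_3 (p : Nat) : Nat := P3 p
noncomputable def WL0_4 (p : Nat) : Nat := P4 p
noncomputable def WL0_5 (p : Nat) : Nat := P5 p
noncomputable def WL0_6 (p : Nat) : Nat := P6 p
/-- the words of level 0 -/
def wsL0 : List (List Nat) := [[0], [1], [2], [3], [4], [5], [6]]
noncomputable def hselL0 (c p : Nat) : Nat := Nat.rec (motive := fun _ => Nat) (WL0_0 p) (fun k0 _ => Nat.rec (motive := fun _ => Nat) (WL0_1 p) (fun k1 _ => Nat.rec (motive := fun _ => Nat) (WL0_2 p) (fun k2 _ => Nat.rec (motive := fun _ => Nat) (WL0_3 p) (fun k3 _ => Nat.rec (motive := fun _ => Nat) (WL0_4 p) (fun k4 _ => Nat.rec (motive := fun _ => Nat) (WL0_5 p) (fun k5 _ => WL0_6 p) k4) k3) k2) k1) k0) c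
noncomputable def labL0 (p : Nat) : Nat := Nat.land (HL0 p) 15
noncomputable def rnkL0 (p : Nat) : Nat := Nat.shiftRight (HL0 p) 8
noncomputable def mvL0 (p : Nat) : Nat := hselL0 (Nat.land (Nat.shiftRight (HL0 p) 4) 15) p
noncomputable def WL1_0 (p : Nat) : Nat := P0 p
noncomputable def WL1_1 (p : Nat) : Nat := P2 p
noncomputable def WL1_2 (p : Nat) : Nat := P3 p
noncomputable def WL1_3 (p : Nat) : Nat := P4 p
noncomputable def WL1_4 (p : Nat) : Nat := P5 p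
noncomputable def WL1_5 (p : Nat) : Nat := P1 (P2 (P3 (P2 (P3 (P5 (P2 (P5 (P3 (P2 (P3 (P2 (P1 p))))))))))))
noncomputable def WL1_6 (p : Nat) : Nat := P1 (P2 (P3 (P2 (P1 (P3 (P6 (P3 (P6 (P3 (P1 (P2 (P3 (P2 (P1 p))))))))))))))
/-- the words of level 1 -/
def wsL1 : List (List Nat) := [[0], [2], [3], [4], [5], [1, 2, 3, 2, 3, 5, 2, 5, 3, 2, 3, 2, 1], [1, 2, 3, 2, 1, 3, 6, 3, 6, 3, 1, 2, 3, 2, 1]]
noncomputable def hselL1 (c p : Nat) : Nat := Nat.rec (motive := fun _ => Nat) (WL1_0 p) (fun k0 _ => Nat.rec (motive := fun _ => Nat) (WL1_1 p) (fun k1 _ => Nat.rec (motive := fun _ => Nat) (WL1_2 p) (fun k2 _ => Nat.rec (motive := fun _ => Nat) (WL1_3 p) (fun k3 _ => Nat.rec (motive := fun _ => Nat) (WL1_4 p) (fun k4 _ => Nat.rec (motive := fun _ => Nat) (WL1_5 p) (fun k5 _ => WL1_6 p) k4) k3) k2) k1) k0) c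
noncomputable def labL1 (p : Nat) : Nat := Nat.land (HL1 p) 15
noncomputable def rnkL1 (p : Nat) : Nat := Nat.shiftRight (HL1 p) 8
noncomputable def mvL1 (p : Nat) : Nat := hselL1 (Nat.land (Nat.shiftRight (HL1 p) 4) 15) p
noncomputable def WL2_0 (p : Nat) : Nat := P0 p
noncomputable def WL2_1 (p : Nat) : Nat := P3 p
noncomputable def WL2_2 (p : Nat) : Nat := P4 p
noncomputable def WL2_3 (p : Nat) : Nat := P5 p
noncomputable def WL2_4 (p : Nat) : Nat := P1 (P2 (P3 (P2 (P3 (P5 (P2 (P5 (P3 (P2 (P3 (P2 (P1 p))))))))))))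
noncomputable def WL2_5 (p : Nat) : Nat := P2 (P1 (P2 (P3 (P2 (P1 (P3 (P6 (P3 (P6 (P3 (P1 (P2 (P3 (P2 (P1 (P0 (P3 (P1 (P2 (P3 (P2 (P1 (P3 (P6 (P3 (P6 (P3 (P1 (P2 (P3 (P2 (P1 (P3 (P1 (P2 (P3 (P2 (P1 (P3 (P6 (P3 (P6 (P3 (P1 (P2 (P3 (P2 (P1 (P4 (P3 (P2 p)))))))))))))))))))))))))))))))))))))))))))))))))))
/-- the words of level 2 -/
def wsL2 : List (List Nat) := [[0], [3], [4], [5], [1, 2, 3, 2, 3, 5, 2, 5, 3, 2, 3, 2, 1], [2, 3, 4, 1, 2, 3, 2, 1, 3, 6, 3, 6, 3, 1, 2, 3, 2, 1, 3, 1, 2, 3, 2, 1, 3, 6, 3, 6, 3, 1, 2, 3, 2, 1, 3, 0, 1, 2, 3, 2, 1, 3, 6, 3, 6, 3, 1, 2, 3, 2, 1, 2]]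
noncomputable def hselL2 (c p : Nat) : Nat := Nat.rec (motive := fun _ => Nat) (WL2_0 p) (fun k0 _ => Nat.rec (motive := fun _ => Nat) (WL2_1 p) (fun k1 _ => Nat.rec (motive := fun _ => Nat) (WL2_2 p) (fun k2 _ => Nat.rec (motive := fun _ => Nat) (WL2_3 p) (fun k3 _ => Nat.rec (motive := fun _ => Nat) (WL2_4 p) (fun k4 _ => WL2_5 p) k3) k2) k1) k0) c
noncomputable def labL2 (p : Nat) : Nat := Nat.land (HL2 p) 15
noncomputable def rnkL2 (p : Nat) : Nat := Nat.shiftRight (HL2 p) 8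
noncomputable def mvL2 (p : Nat) : Nat := hselL2 (Nat.land (Nat.shiftRight (HL2 p) 4) 15) p
noncomputable def WL3_0 (p : Nat) : Nat := P0 p
noncomputable def WL3_1 (p : Nat) : Nat := P5 (P1 (P2 (P3 (P2 (P3 (P5 (P2 (P5 (P3 (P2 (P3 (P2 (P1 (P3 (P5 (P4 p))))))))))))))))
/-- the words of level 3 -/
def wsL3 : List (List Nat) := [[0], [4, 5, 3, 1, 2, 3, 2, 3, 5, 2, 5, 3, 2, 3, 2, 1, 5]]
noncomputable def hselL3 (c p : Nat) : Nat := Nat.rec (motive := fun _ => Nat) (WL3_0 p) (fun k0 _ => WL3_1 p) c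
noncomputable def labL3 (p : Nat) : Nat := Nat.land (HL3 p) 15
noncomputable def rnkL3 (p : Nat) : Nat := Nat.shiftRight (HL3 p) 8
noncomputable def mvL3 (p : Nat) : Nat := hselL3 (Nat.land (Nat.shiftRight (HL3 p) 4) 15) p
end Cfsg.Agent.Lib.Helper6.TCD.HeaL
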