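import Cfsg.Agent.Lib.Helper6.TC13
import Cfsg.Agent.Lib.Helper6.TCD.Hea.Par
set_option autoImplicit false
set_option maxRecDepth 1000000
set_option Elab.async false
open Cfsg.Agent.Lib.Helper6.TC
namespace Cfsg.Agent.Lib.Helper6.TCD.HeaL
open Cfsg.Agent.Lib.Helper6.TCD.Hea
noncomputable def XP (p : Nat) : Nat := P3 (P5 (P2 (P4 (P2 (P6 (P3 (P5 (P2 (P4 (P2 (P6 (P3 (P5 (P2 (P4 (P2 (P6 (P3 (P5 (P2 (P4 (P2 (P6 (P3 (P5 (P2 (P4 (P2 (P6 (P3 (P5 (P2 (P4 (P2 (P6 (P3 (P5 (P2 (P4 (P2 (P6 p)))))))))))))))))))))))))))))))))))))))))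
noncomputable def WR (p : Nat) : Nat := P3 (P2 (P5 (P6 (P3 (P4 (P2 (P2 (P3 (P5 (P2 (P4 (P2 (P6 (P2 (P3 (P5 (P2 (P4 (P2 (P6 (P2 (P4 (P3 (P6 (P5 (P2 (P3 p)))))))))))))))))))))))))))
theorem chkXP0 : chkFix XP 0 2058 = true := by decide +kernel
theorem chkWR0 : chkEqF WR P4 0 2058 = true := by decide +kernel
end Cfsg.Agent.Lib.Helper6.TCD.HeaL
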